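import Mathlib
import Cfsg.Prelude.Def_Characters
import Cfsg.Agent.Helper80.Eigen

/-!
# S3670 (helper54), piece (N8): for `g` of order dividing `8` and a character `χ` with `χ g ≠ 0`,
`|χ(g)|² + |χ(g³)|² + |χ(g⁵)|² + |χ(g⁷)|² ≥ 4`
-/

set_option autoImplicit false

namespace Cfsg.Agent.Helper70.U33

open Cfsg
open scoped ComplexConjugate

universe u

/-- the fourth power of a primitive eighth root of unity -/
theorem N8_pow_four (ζ : ℂ) (hζ : IsPrimitiveRoot ζ 8) : ζ ^ 4 = -1 := by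
  have h8 : ζ ^ 8 = 1 := hζ.pow_eq_one
  have hne : ζ ^ 4 ≠ 1 := hζ.pow_ne_one_of_pos_of_lt (by norm_num) (by norm_num)
  have h2 : (ζ ^ 4 - 1) * (ζ ^ 4 + 1) = 0 := by
    have : (ζ ^ 4 - 1) * (ζ ^ 4 + 1) = ζ ^ 8 - 1 := by ring
    rw [this, h8, sub_self]
  rcases mul_eq_zero.mp h2 with h | h
  · exact absurd (sub_eq_zero.mp h) hne
  · exact eq_neg_of_add_eq_zero_left h

/-- `(ζ ^ k) ^ 4 = -1` for odd `k` -/
theorem N8_pow_odd (ζ : ℂ) (hζ : IsPrimitiveRoot ζ 8) (k : ℕ) (hk : Odd k) : (ζ ^ k) ^ 4 = -1 := by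
  rw [← pow_mul, mul_comm, pow_mul, N8_pow_four ζ hζ, hk.neg_one_pow]

/-- powers of an eighth root of unity, at odd exponents -/
theorem N8_single (ζ : ℂ) (hζ : IsPrimitiveRoot ζ 8) (x : ℂ) (hx : x ^ 8 = 1) :
    ∃ e0 e1 e2 e3 : ℤ, ∀ k : ℕ, Odd k →
      x ^ k = (e0 : ℂ) + (e1 : ℂ) * ζ ^ k + (e2 : ℂ) * (ζ ^ k) ^ 2 + (e3 : ℂ) * (ζ ^ k) ^ 3 := by
  haveI : NeZero 8 := ⟨by norm_num⟩
  obtain ⟨j, hj, rfl⟩ := hζ.eq_pow_of_pow_eq_one hx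
  have hsw : ∀ k : ℕ, (ζ ^ j) ^ k = (ζ ^ k) ^ j := by
    intro k
    rw [← pow_mul, mul_comm, pow_mul]
  interval_cases j
  · exact ⟨1, 0, 0, 0, fun k hk => by rw [hsw]; push_cast; ring⟩
  · exact ⟨0, 1, 0, 0, fun k hk => by rw [hsw]; push_cast; ring⟩
  · exact ⟨0, 0, 1, 0, fun k hk => by rw [hsw]; push_cast; ring⟩
  · exact ⟨0, 0, 0, 1, fun k hk => by rw [hsw]; push_cast; ring⟩
  · exact ⟨-1, 0, 0, 0, fun k hk => by
      rw [hsw]; push_cast; linear_combination N8_pow_odd ζ hζ k hk⟩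
  · exact ⟨0, -1, 0, 0, fun k hk => by
      rw [hsw]; push_cast; linear_combination (ζ ^ k) * N8_pow_odd ζ hζ k hk⟩
  · exact ⟨0, 0, -1, 0, fun k hk => by
      rw [hsw]; push_cast; linear_combination (ζ ^ k) ^ 2 * N8_pow_odd ζ hζ k hk⟩
  · exact ⟨0, 0, 0, -1, fun k hk => by
      rw [hsw]; push_cast; linear_combination (ζ ^ k) ^ 3 * N8_pow_odd ζ hζ k hk⟩

/-- power sums of eighth roots of unity, at odd exponents -/
theorem N8_form (ζ : ℂ) (hζ : IsPrimitiveRoot ζ 8) {ι : Type*} [DecidableEq ι] (s : Finset ι)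
    (μ : ι → ℂ) (hμ : ∀ i ∈ s, μ i ^ 8 = 1) :
    ∃ d0 d1 d2 d3 : ℤ, ∀ k : ℕ, Odd k →
      ∑ i ∈ s, μ i ^ k =
        (d0 : ℂ) + (d1 : ℂ) * ζ ^ k + (d2 : ℂ) * (ζ ^ k) ^ 2 + (d3 : ℂ) * (ζ ^ k) ^ 3 := by
  induction s using Finset.induction_on with
  | empty => exact ⟨0, 0, 0, 0, fun k _ => by simp⟩
  | insert a s ha ih =>
    obtain ⟨d0, d1, d2, d3, hd⟩ := ih (fun i hi => hμ i (Finset.mem_insert_of_mem hi))
    obtain ⟨e0, e1, e2, e3, he⟩ := N8_single ζ hζ (μ a) (hμ a (Finset.mem_insert_self a s))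
    refine ⟨e0 + d0, e1 + d1, e2 + d2, e3 + d3, fun k hk => ?_⟩
    rw [Finset.sum_insert ha, hd k hk, he k hk]
    push_cast
    ring

/-- the norm of `d0 + d1 z + d2 z² + d3 z³` for `z ^ 4 = -1` -/
theorem N8_normSq_form (z : ℂ) (hz : z ^ 4 = -1) (d0 d1 d2 d3 : ℤ) :
    ((Complex.normSq ((d0 : ℂ) + (d1 : ℂ) * z + (d2 : ℂ) * z ^ 2 + (d3 : ℂ) * z ^ 3) : ℝ) : ℂ) =
      ((d0 ^ 2 + d1 ^ 2 + d2 ^ 2 + d3 ^ 2 : ℤ) : ℂ) +
        (z - z ^ 3) * ((d0 * d1 + d1 * d2 + d2 * d3 - d0 * d3 : ℤ) : ℂ) := by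
  have h8 : z ^ 8 = 1 := by
    have : z ^ 8 = (z ^ 4) ^ 2 := by ring
    rw [this, hz]
    norm_num
  have hnorm : ‖z‖ = 1 := Complex.norm_eq_one_of_pow_eq_one h8 (by norm_num)
  have hz0 : z ≠ 0 := by
    intro h
    rw [h] at h8
    norm_num at h8
  have hconj : conj z = -z ^ 3 := by
    have h4 : z * conj z = 1 := by
      rw [Complex.mul_conj, Complex.normSq_eq_norm_sq, hnorm]
      norm_num
    have h5 : z * (-z ^ 3) = 1 := by linear_combination (-1 : ℂ) * hz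
    exact mul_left_cancel₀ hz0 (h4.trans h5.symm)
  have hc2 : (conj z) ^ 2 = -z ^ 2 := by
    rw [hconj]
    linear_combination (z ^ 2) * hz
  have hc3 : (conj z) ^ 3 = -z := by
    rw [hconj]
    linear_combination (-z ^ 5 + z) * hz
  rw [← Complex.mul_conj]
  simp only [map_add, map_mul, map_pow, map_intCast, hc2, hc3]
  rw [hconj]
  push_cast
  linear_combination (-((d1 : ℂ) ^ 2 + (d2 : ℂ) ^ 2 + (d3 : ℂ) ^ 2) -
    ((d1 : ℂ) * d2 + (d2 : ℂ) * d3) * z - (d1 : ℂ) * d3 * z ^ 2) * hz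

/-- (N8) for `g` of order dividing `8` and a character `χ` with `χ g ≠ 0`,
`|χ(g)|² + |χ(g³)|² + |χ(g⁵)|² + |χ(g⁷)|² ≥ 4` (trace of `α ᾱ` from `ℚ(ζ₈)`:
with eigenvalue multiplicities `m_j` it equals `4 Σ_{j<4} (m_j - m_{j+4})²`). -/
theorem N8_normSq {G : Type u} [Group G] (χ : G → ℂ) (hχ : IsCharacter G χ) (g : G)
    (hg : g ^ 8 = 1) (h0 : χ g ≠ 0) :
    4 ≤ Complex.normSq (χ g) + Complex.normSq (χ (g ^ 3)) + Complex.normSq (χ (g ^ 5)) +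
      Complex.normSq (χ (g ^ 7)) := by
  classical
  obtain ⟨d, ρ, rfl⟩ := hχ
  have hf : (ρ g) ^ 8 = 1 := by
    rw [← map_pow, hg, map_one]
  obtain ⟨b, μ, -, hμ, htr⟩ := Cfsg.Agent.Helper80.exists_eigen_data (ρ g) 8 (by norm_num) hf
  have hchar : ∀ k : ℕ, ρ.character (g ^ k) = ∑ i, μ i ^ k := by
    intro k
    rw [Representation.character, map_pow]
    exact htr k
  have hζ : IsPrimitiveRoot (Complex.exp (2 * Real.pi * Complex.I / (8 : ℕ))) 8 :=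
    Complex.isPrimitiveRoot_exp 8 (by norm_num)
  set ζ : ℂ := Complex.exp (2 * Real.pi * Complex.I / (8 : ℕ)) with hζdef
  obtain ⟨d0, d1, d2, d3, hd⟩ := N8_form ζ hζ Finset.univ μ (fun i _ => hμ i)
  have h8 : ζ ^ 8 = 1 := hζ.pow_eq_one
  have o1 : Odd 1 := ⟨0, by norm_num⟩
  have o3 : Odd 3 := ⟨1, by norm_num⟩
  have o5 : Odd 5 := ⟨2, by norm_num⟩
  have o7 : Odd 7 := ⟨3, by norm_num⟩
  have e1 : ρ.character g =
      (d0 : ℂ) + (d1 : ℂ) * ζ ^ 1 + (d2 : ℂ) * (ζ ^ 1) ^ 2 + (d3 : ℂ) * (ζ ^ 1) ^ 3 := by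
    have := hchar 1
    rw [pow_one] at this
    rw [this]
    exact hd 1 o1
  have e3 : ρ.character (g ^ 3) =
      (d0 : ℂ) + (d1 : ℂ) * ζ ^ 3 + (d2 : ℂ) * (ζ ^ 3) ^ 2 + (d3 : ℂ) * (ζ ^ 3) ^ 3 := by
    rw [hchar 3]
    exact hd 3 o3
  have e5 : ρ.character (g ^ 5) =
      (d0 : ℂ) + (d1 : ℂ) * ζ ^ 5 + (d2 : ℂ) * (ζ ^ 5) ^ 2 + (d3 : ℂ) * (ζ ^ 5) ^ 3 := by
    rw [hchar 5]
    exact hd 5 o5
  have e7 : ρ.character (g ^ 7) =
      (d0 : ℂ) + (d1 : ℂ) * ζ ^ 7 + (d2 : ℂ) * (ζ ^ 7) ^ 2 + (d3 : ℂ) * (ζ ^ 7) ^ 3 := by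
    rw [hchar 7]
    exact hd 7 o7
  have n1 := N8_normSq_form (ζ ^ 1) (N8_pow_odd ζ hζ 1 o1) d0 d1 d2 d3
  have n3 := N8_normSq_form (ζ ^ 3) (N8_pow_odd ζ hζ 3 o3) d0 d1 d2 d3
  have n5 := N8_normSq_form (ζ ^ 5) (N8_pow_odd ζ hζ 5 o5) d0 d1 d2 d3
  have n7 := N8_normSq_form (ζ ^ 7) (N8_pow_odd ζ hζ 7 o7) d0 d1 d2 d3
  rw [← e1] at n1
  rw [← e3] at n3
  rw [← e5] at n5
  rw [← e7] at n7
  set S : ℤ := d0 ^ 2 + d1 ^ 2 + d2 ^ 2 + d3 ^ 2 with hS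
  have hsum : ((Complex.normSq (ρ.character g) + Complex.normSq (ρ.character (g ^ 3)) +
      Complex.normSq (ρ.character (g ^ 5)) + Complex.normSq (ρ.character (g ^ 7)) : ℝ) : ℂ) =
      ((4 * S : ℤ) : ℂ) := by
    push_cast
    rw [n1, n3, n5, n7]
    push_cast
    linear_combination (((d0 : ℂ) * d1 + (d1 : ℂ) * d2 + (d2 : ℂ) * d3 - (d0 : ℂ) * d3) *
      (-ζ - ζ ^ 5 * (ζ ^ 8 + 1) - ζ ^ 7)) * h8
  have hsumR : Complex.normSq (ρ.character g) + Complex.normSq (ρ.character (g ^ 3)) +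
      Complex.normSq (ρ.character (g ^ 5)) + Complex.normSq (ρ.character (g ^ 7)) =
      ((4 * S : ℤ) : ℝ) := by
    have : ((Complex.normSq (ρ.character g) + Complex.normSq (ρ.character (g ^ 3)) +
      Complex.normSq (ρ.character (g ^ 5)) + Complex.normSq (ρ.character (g ^ 7)) : ℝ) : ℂ) =
      ((((4 * S : ℤ) : ℝ)) : ℂ) := by
      rw [hsum]
      push_cast
      rfl
    exact_mod_cast this
  rw [hsumR]
  have hSpos : (1 : ℤ) ≤ S := by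
    by_contra hlt
    have hS0 : S ≤ 0 := by omega
    have h0' : d0 = 0 := by nlinarith [sq_nonneg d0, sq_nonneg d1, sq_nonneg d2, sq_nonneg d3]
    have h1' : d1 = 0 := by nlinarith [sq_nonneg d0, sq_nonneg d1, sq_nonneg d2, sq_nonneg d3]
    have h2' : d2 = 0 := by nlinarith [sq_nonneg d0, sq_nonneg d1, sq_nonneg d2, sq_nonneg d3]
    have h3' : d3 = 0 := by nlinarith [sq_nonneg d0, sq_nonneg d1, sq_nonneg d2, sq_nonneg d3]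
    apply h0
    rw [e1, h0', h1', h2', h3']
    simp
  have : (4 : ℤ) ≤ 4 * S := by omega
  exact_mod_cast this

end Cfsg.Agent.Helper70.U33
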