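import Mathlib
import Cfsg.Agent.Helper98.SU33Data

/-!
# S3670 (helper54), pieces (CG3), (CG8): kernel-evaluated check that the centralizers in `SU_3(3)`
of the cyclic permutation matrix `P` (order 3) and of `e8` (order 8) are the explicit lists
`listP` (9 elements) and `list8` (8 elements).  Same enumeration as `Helper98/SU33Data.lean`.
-/

set_option autoImplicit false

namespace Cfsg.Agent.Helper70.U33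

open Cfsg.Agent.Helper98.U33 Cfsg.Agent.Helper98.SU33

/-- the cyclic permutation matrix, flat -/
def pB : B3 := ⟨0, 0, 0, 0, 1, 0, 1, 0, 0, 0, 0, 0, 0, 0, 1, 0, 0, 0⟩

/-- the element of order 8 (`Helper98.SU33.e8`), flat -/
def e8B : B3 := ⟨0, 0, 0, 0, 0, 1, 0, 0, 0, 1, 0, 0, 1, 0, 0, 0, 0, 0⟩

/-- the centralizer of `pB` -/
def listP : List B3 :=
  [⟨0, 0, 1, 0, 0, 0, 0, 0, 0, 0, 1, 0, 1, 0, 0, 0, 0, 0⟩,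
   ⟨0, 0, 0, 0, 1, 0, 1, 0, 0, 0, 0, 0, 0, 0, 1, 0, 0, 0⟩,
   ⟨0, 1, 1, 1, 0, 1, 0, 1, 0, 1, 1, 1, 1, 1, 0, 1, 0, 1⟩,
   ⟨0, 1, 0, 1, 1, 1, 1, 1, 0, 1, 0, 1, 0, 1, 1, 1, 0, 1⟩,
   ⟨0, 2, 1, 2, 0, 2, 0, 2, 0, 2, 1, 2, 1, 2, 0, 2, 0, 2⟩,
   ⟨0, 2, 0, 2, 1, 2, 1, 2, 0, 2, 0, 2, 0, 2, 1, 2, 0, 2⟩,
   ⟨1, 0, 0, 0, 0, 0, 0, 0, 1, 0, 0, 0, 0, 0, 0, 0, 1, 0⟩,
   ⟨1, 1, 0, 1, 0, 1, 0, 1, 1, 1, 0, 1, 0, 1, 0, 1, 1, 1⟩,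
   ⟨1, 2, 0, 2, 0, 2, 0, 2, 1, 2, 0, 2, 0, 2, 0, 2, 1, 2⟩]

/-- the centralizer of `e8B` -/
def list8 : List B3 :=
  [⟨0, 0, 0, 0, 2, 0, 0, 0, 0, 2, 0, 0, 0, 1, 0, 0, 0, 0⟩,
   ⟨0, 0, 0, 0, 1, 0, 0, 0, 0, 2, 0, 0, 0, 2, 0, 0, 0, 0⟩,
   ⟨0, 0, 0, 0, 0, 1, 0, 0, 0, 1, 0, 0, 1, 0, 0, 0, 0, 0⟩,
   ⟨0, 0, 0, 0, 0, 2, 0, 0, 0, 1, 0, 0, 2, 0, 0, 0, 0, 0⟩,
   ⟨0, 1, 0, 0, 0, 0, 0, 0, 2, 0, 0, 0, 0, 0, 0, 0, 0, 1⟩,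
   ⟨0, 2, 0, 0, 0, 0, 0, 0, 2, 0, 0, 0, 0, 0, 0, 0, 0, 2⟩,
   ⟨1, 0, 0, 0, 0, 0, 0, 0, 1, 0, 0, 0, 0, 0, 0, 0, 1, 0⟩,
   ⟨2, 0, 0, 0, 0, 0, 0, 0, 1, 0, 0, 0, 0, 0, 0, 0, 2, 0⟩]

/-- boolean membership in a list -/
def memB (x : B3) : List B3 → Bool
  | [] => false
  | y :: l => decide (x = y) || memB x l

theorem mem_of_memB (x : B3) : ∀ l : List B3, memB x l = true → x ∈ l
  | [], h => by simp [memB] at h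
  | y :: l, h => by
    simp only [memB, Bool.or_eq_true, decide_eq_true_eq] at h
    rcases h with h | h
    · rw [h]; exact List.mem_cons_self
    · exact List.mem_cons_of_mem _ (mem_of_memB x l h)

/-- an element commuting with `pB` lies in `listP`, and an element commuting with `e8B` lies in
`list8` -/
def okCG (x : B3) : Bool :=
  (!(decide (B3.mul x pB = B3.mul pB x)) || memB x listP) &&
    (!(decide (B3.mul x e8B = B3.mul e8B x)) || memB x list8)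

/-- the statement checked for a fixed first entry of the first column -/
def SliceCG (a1 : S9) : Prop :=
  ∀ a2r a2i a3r a3i : ZMod 3, nrm a1 ⟨a2r, a2i⟩ ⟨a3r, a3i⟩ = 1 →
    ∀ b1r b1i b2r b2i b3r b3i : ZMod 3,
      nrm ⟨b1r, b1i⟩ ⟨b2r, b2i⟩ ⟨b3r, b3i⟩ = 1 →
      orthRe a1 ⟨a2r, a2i⟩ ⟨a3r, a3i⟩ ⟨b1r, b1i⟩ ⟨b2r, b2i⟩ ⟨b3r, b3i⟩ = 0 →
      orthIm a1 ⟨a2r, a2i⟩ ⟨a3r, a3i⟩ ⟨b1r, b1i⟩ ⟨b2r, b2i⟩ ⟨b3r, b3i⟩ = 0 →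
      okCG (mk3 a1 ⟨a2r, a2i⟩ ⟨a3r, a3i⟩ ⟨b1r, b1i⟩ ⟨b2r, b2i⟩ ⟨b3r, b3i⟩) = true

instance (a1 : S9) : Decidable (SliceCG a1) := by unfold SliceCG; infer_instance

set_option maxHeartbeats 0 in
set_option maxRecDepth 100000 in
theorem sliceCG_00 : SliceCG ⟨0, 0⟩ := by decide +kernel

set_option maxHeartbeats 0 in
set_option maxRecDepth 100000 in
theorem sliceCG_01 : SliceCG ⟨0, 1⟩ := by decide +kernel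

set_option maxHeartbeats 0 in
set_option maxRecDepth 100000 in
theorem sliceCG_02 : SliceCG ⟨0, 2⟩ := by decide +kernel

end Cfsg.Agent.Helper70.U33
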