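import Mathlib
import Cfsg.Agent.Helper70.U33.CGData

/-!
Further slices of the kernel-evaluated check of `CGData`.
-/

set_option autoImplicit false

namespace Cfsg.Agent.Helper70.U33

open Cfsg.Agent.Helper98.U33 Cfsg.Agent.Helper98.SU33

set_option maxHeartbeats 0 in
set_option maxRecDepth 100000 in
theorem sliceCG_10 : SliceCG ⟨1, 0⟩ := by decide +kernel

set_option maxHeartbeats 0 in
set_option maxRecDepth 100000 in
theorem sliceCG_11 : SliceCG ⟨1, 1⟩ := by decide +kernel

set_option maxHeartbeats 0 in
set_option maxRecDepth 100000 in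
theorem sliceCG_12 : SliceCG ⟨1, 2⟩ := by decide +kernel

end Cfsg.Agent.Helper70.U33
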