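import Mathlib
import Cfsg.Agent.Helper98.SU33c
import Cfsg.Agent.Helper70.U33.CGData
import Cfsg.Agent.Helper70.U33.CGDataB
import Cfsg.Agent.Helper70.U33.CGDataC

/-!
# S3670 (helper54), pieces (CG3), (CG8): from the kernel-evaluated check `SliceCG` to a bound on
the order of the centralizer of a flat element of `SU_3(3)`.
-/

set_option autoImplicit false

namespace Cfsg.Agent.Helper70.U33

open Matrix Cfsg.Agent.Helper98 Cfsg.Agent.Helper98.U33 Cfsg.Agent.Helper98.SU33

theorem all_slicesCG (a1 : S9) : SliceCG a1 := by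
  obtain ⟨r, i⟩ := a1
  fin_cases r <;> fin_cases i
  · exact sliceCG_00
  · exact sliceCG_01
  · exact sliceCG_02
  · exact sliceCG_10
  · exact sliceCG_11
  · exact sliceCG_12
  · exact sliceCG_20
  · exact sliceCG_21
  · exact sliceCG_22

theorem exists_okCG (A : SL3') (hA : A ∈ Cfsg.SU 3 GF9 3) :
    ∃ x : B3, sndMat x = A.1 ∧ okCG x = true := by
  obtain ⟨a1, a2, a3, b1, b2, b3, h1, h2, h3, h4, h5⟩ := exists_flat A hA
  refine ⟨_, h5, ?_⟩
  exact all_slicesCG a1 a2.re a2.im a3.re a3.im h1 b1.re b1.im b2.re b2.im b3.re b3.im h2 h3 h4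

/-- if every enumerated element commuting with the flat element `g` lies in the list `L`, then the
centralizer of `g` in `SU_3(3)` has at most `L.length` elements -/
theorem card_centralizer_le (g : B3) (hdet : (sndMat g).det = 1)
    (hflat : B3.mul (transB g) (conjB g) = B3.one) (L : List B3)
    (hL : ∀ x : B3, okCG x = true → B3.mul x g = B3.mul g x → x ∈ L) :
    Nat.card (Subgroup.centralizer ({toSU g hdet hflat} : Set S)) ≤ L.length := by
  classical
  have hex : ∀ A : Subgroup.centralizer ({toSU g hdet hflat} : Set S),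
      ∃ x : B3, sndMat x = ((A : S) : SL3').1 ∧ x ∈ L := by
    intro A
    obtain ⟨x, hx, hok⟩ := exists_okCG (A : S).1 (A : S).2
    refine ⟨x, hx, hL x hok ?_⟩
    have hA := A.2
    rw [Subgroup.mem_centralizer_iff] at hA
    have hc := hA _ (Set.mem_singleton _)
    apply sndMat_injective
    rw [sndMat_mul, sndMat_mul, hx]
    have h1 := congrArg (fun B : S => ((B : SL3') : Matrix (Fin 3) (Fin 3) GF9)) hc
    simp only [Subgroup.coe_mul, Matrix.SpecialLinearGroup.coe_mul] at h1
    exact h1.symm
  choose f hf1 hf2 using hex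
  have hinj : Function.Injective
      (fun A : Subgroup.centralizer ({toSU g hdet hflat} : Set S) =>
        (⟨f A, List.mem_toFinset.2 (hf2 A)⟩ : {x : B3 // x ∈ L.toFinset})) := by
    intro A B hAB
    have h1 : f A = f B := congrArg Subtype.val hAB
    have h2 : ((A : S) : SL3').1 = ((B : S) : SL3').1 := by rw [← hf1 A, ← hf1 B, h1]
    exact Subtype.ext (Subtype.ext (Subtype.ext h2))
  calc Nat.card (Subgroup.centralizer ({toSU g hdet hflat} : Set S))
      ≤ Nat.card {x : B3 // x ∈ L.toFinset} := Nat.card_le_card_of_injective _ hinj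
    _ = L.toFinset.card := by rw [Nat.card_eq_fintype_card, Fintype.card_coe]
    _ ≤ L.length := List.toFinset_card_le L

end Cfsg.Agent.Helper70.U33
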