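import Mathlib
import Cfsg.Agent.Helper70.U33.CGCommon

/-!
# S3670 (helper54), piece (CG3): `SU_3(3)` has an element of order 3 (the cyclic permutation
matrix) whose centralizer has at most 9 elements.
-/

set_option autoImplicit false

namespace Cfsg.Agent.Helper70.U33

open Matrix Cfsg.Agent.Helper98 Cfsg.Agent.Helper98.U33 Cfsg.Agent.Helper98.SU33

theorem det_pB : (sndMat pB).det = 1 := by
  rw [Matrix.det_fin_three]; simp [sndMat, pB]; decide

theorem flat_pB : B3.mul (transB pB) (conjB pB) = B3.one := by decide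

theorem orderOf_pB : orderOf (toSU pB det_pB flat_pB) = 3 := by
  have : Fact (Nat.Prime 3) := ⟨by norm_num⟩
  apply orderOf_eq_prime
  · rw [toSU_pow_eq_one_iff]; decide
  · intro h
    have h1 : toSU pB det_pB flat_pB ^ 1 = 1 := by rw [pow_one, h]
    rw [toSU_pow_eq_one_iff] at h1
    revert h1; decide

theorem mem_listP_of_ok (x : B3) (hok : okCG x = true) (hc : B3.mul x pB = B3.mul pB x) :
    x ∈ listP := by
  apply mem_of_memB
  simp only [okCG, Bool.and_eq_true, Bool.or_eq_true, Bool.not_eq_true', decide_eq_false_iff_not]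
    at hok
  rcases hok.1 with h | h
  · exact absurd hc h
  · exact h

theorem CG3_centralizer : ∃ g : Cfsg.Agent.Helper98.SU33.S, orderOf g = 3 ∧
    Nat.card (Subgroup.centralizer ({g} : Set Cfsg.Agent.Helper98.SU33.S)) ≤ 9 := by
  refine ⟨toSU pB det_pB flat_pB, orderOf_pB, ?_⟩
  exact card_centralizer_le pB det_pB flat_pB listP mem_listP_of_ok

end Cfsg.Agent.Helper70.U33
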