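import Mathlib
import Cfsg.Agent.Helper70.U33.CGCommon

/-!
# S3670 (helper54), piece (CG8): `SU_3(3)` has an element of order 8 whose centralizer has at most
8 elements.
-/

set_option autoImplicit false

namespace Cfsg.Agent.Helper70.U33

open Matrix Cfsg.Agent.Helper98 Cfsg.Agent.Helper98.U33 Cfsg.Agent.Helper98.SU33

theorem e8B_eq : e8B = e8 := rfl

theorem mem_list8_of_ok (x : B3) (hok : okCG x = true) (hc : B3.mul x e8 = B3.mul e8 x) :
    x ∈ list8 := by
  apply mem_of_memB
  simp only [okCG, Bool.and_eq_true, Bool.or_eq_true, Bool.not_eq_true', decide_eq_false_iff_not]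
    at hok
  rcases hok.2 with h | h
  · exact absurd hc h
  · exact h

theorem CG8_centralizer : ∃ g : Cfsg.Agent.Helper98.SU33.S, orderOf g = 8 ∧
    Nat.card (Subgroup.centralizer ({g} : Set Cfsg.Agent.Helper98.SU33.S)) ≤ 8 := by
  refine ⟨toSU e8 det_e8 flat_e8, orderOf_e8, ?_⟩
  exact card_centralizer_le e8 det_e8 flat_e8 list8 mem_list8_of_ok

end Cfsg.Agent.Helper70.U33
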