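import Mathlib
import Cfsg.Prelude.Def_Characters
import Cfsg.Agent.Helper80.Eigen

/-!
# S3670 (helper54), piece (N3): a nonzero character value at an element of order dividing `3`
has absolute value at least `1` (it is a nonzero Eisenstein integer)
-/

set_option autoImplicit false

namespace Cfsg.Agent.Helper70.U33

open Cfsg
open scoped ComplexConjugate

universe u

/-- sums of cube roots of unity are Eisenstein integers -/
theorem N3_sum_form (ω : ℂ) (hω : IsPrimitiveRoot ω 3) {ι : Type*} (s : Finset ι) (μ : ι → ℂ)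
    (hμ : ∀ i ∈ s, μ i ^ 3 = 1) :
    ∃ m0 m1 m2 : ℕ, ∑ i ∈ s, μ i = (m0 : ℂ) + (m1 : ℂ) * ω + (m2 : ℂ) * ω ^ 2 := by
  apply Finset.sum_induction μ
    (fun z : ℂ => ∃ m0 m1 m2 : ℕ, z = (m0 : ℂ) + (m1 : ℂ) * ω + (m2 : ℂ) * ω ^ 2)
  · rintro a b ⟨a0, a1, a2, rfl⟩ ⟨b0, b1, b2, rfl⟩
    exact ⟨a0 + b0, a1 + b1, a2 + b2, by push_cast; ring⟩
  · exact ⟨0, 0, 0, by simp⟩
  · intro i hi
    haveI : NeZero 3 := ⟨by norm_num⟩
    obtain ⟨k, hk, hk'⟩ := hω.eq_pow_of_pow_eq_one (hμ i hi)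
    interval_cases k
    · exact ⟨1, 0, 0, by rw [← hk']; simp⟩
    · exact ⟨0, 1, 0, by rw [← hk']; simp⟩
    · exact ⟨0, 0, 1, by rw [← hk']; simp⟩

/-- the norm of an Eisenstein integer -/
theorem N3_normSq_form (ω : ℂ) (hω : IsPrimitiveRoot ω 3) (m0 m1 m2 : ℤ) :
    ((Complex.normSq ((m0 : ℂ) + (m1 : ℂ) * ω + (m2 : ℂ) * ω ^ 2) : ℝ) : ℂ) =
      ((m0 ^ 2 + m1 ^ 2 + m2 ^ 2 - m0 * m1 - m1 * m2 - m0 * m2 : ℤ) : ℂ) := by
  have h3 : ω ^ 3 = 1 := hω.pow_eq_one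
  have hne1 : ω ≠ 1 := hω.ne_one (by norm_num)
  have h1 : ω ^ 2 + ω + 1 = 0 := by
    have h2 : (ω - 1) * (ω ^ 2 + ω + 1) = 0 := by
      have : (ω - 1) * (ω ^ 2 + ω + 1) = ω ^ 3 - 1 := by ring
      rw [this, h3, sub_self]
    rcases mul_eq_zero.mp h2 with h | h
    · exact absurd (sub_eq_zero.mp h) hne1
    · exact h
  have hnorm : ‖ω‖ = 1 := Complex.norm_eq_one_of_pow_eq_one h3 (by norm_num)
  have hconj : conj ω = ω ^ 2 := by
    have h4 : ω * conj ω = 1 := by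
      rw [Complex.mul_conj, Complex.normSq_eq_norm_sq, hnorm]
      norm_num
    have hω0 : ω ≠ 0 := by
      intro h
      rw [h] at h3
      norm_num at h3
    have h5 : ω * ω ^ 2 = 1 := by rw [← h3]; ring
    exact mul_left_cancel₀ hω0 (h4.trans h5.symm)
  rw [← Complex.mul_conj]
  simp only [map_add, map_mul, map_pow, map_intCast, hconj]
  push_cast
  linear_combination ((m0 : ℂ) * m2 * ω + (m1 : ℂ) ^ 2 + (m1 : ℂ) * m2 * ω ^ 2 + (m1 : ℂ) * m2 * ω +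
    (m2 : ℂ) ^ 2 * (ω ^ 3 + 1)) * h3 + ((m0 : ℂ) * m1 + (m0 : ℂ) * m2 + (m1 : ℂ) * m2) * h1

/-- (N3) a nonzero character value at an element of order dividing `3` has absolute value `≥ 1`
(it is a nonzero Eisenstein integer). -/
theorem N3_normSq {G : Type u} [Group G] (χ : G → ℂ) (hχ : IsCharacter G χ) (g : G)
    (hg : g ^ 3 = 1) (h0 : χ g ≠ 0) : 1 ≤ Complex.normSq (χ g) := by
  classical
  obtain ⟨d, ρ, rfl⟩ := hχ
  have hf : (ρ g) ^ 3 = 1 := by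
    rw [← map_pow, hg, map_one]
  obtain ⟨b, μ, -, hμ, htr⟩ := Cfsg.Agent.Helper80.exists_eigen_data (ρ g) 3 (by norm_num) hf
  have h1 : ρ.character g = ∑ i, μ i := by
    have := htr 1
    simp only [pow_one] at this
    exact this
  have hω : IsPrimitiveRoot (Complex.exp (2 * Real.pi * Complex.I / (3 : ℕ))) 3 :=
    Complex.isPrimitiveRoot_exp 3 (by norm_num)
  obtain ⟨m0, m1, m2, hm⟩ := N3_sum_form _ hω Finset.univ μ (fun i _ => hμ i)
  rw [h1, hm] at h0 ⊢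
  have h2 := N3_normSq_form _ hω (m0 : ℤ) (m1 : ℤ) (m2 : ℤ)
  simp only [Int.cast_natCast] at h2
  set z : ℂ := (m0 : ℂ) + (m1 : ℂ) * Complex.exp (2 * Real.pi * Complex.I / (3 : ℕ)) +
    (m2 : ℂ) * Complex.exp (2 * Real.pi * Complex.I / (3 : ℕ)) ^ 2 with hz
  set M : ℤ := (m0 : ℤ) ^ 2 + (m1 : ℤ) ^ 2 + (m2 : ℤ) ^ 2 - (m0 : ℤ) * m1 - (m1 : ℤ) * m2 -
    (m0 : ℤ) * m2 with hM
  have h3 : Complex.normSq z = (M : ℝ) := by
    have : ((Complex.normSq z : ℝ) : ℂ) = ((M : ℝ) : ℂ) := by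
      rw [h2]
      push_cast
      rfl
    exact_mod_cast this
  have h4 : 0 < Complex.normSq z := Complex.normSq_pos.mpr h0
  rw [h3] at h4 ⊢
  have h5 : (0 : ℤ) < M := by exact_mod_cast h4
  have h6 : (1 : ℤ) ≤ M := h5
  exact_mod_cast h6

end Cfsg.Agent.Helper70.U33
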